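import Mathlib

set_option autoImplicit false

namespace Cfsg.Agent.Lib.Helper20

open MulAction

/-- the subgroup generated by the derangements -/
abbrev derSub (G Ω : Type*) [Group G] [MulAction G Ω] : Subgroup G :=
  Subgroup.closure {g : G | ∀ ω : Ω, g • ω ≠ ω}

instance derSub_normal (G Ω : Type*) [Group G] [MulAction G Ω] : (derSub G Ω).Normal := by
  have h : derSub G Ω = Subgroup.normalClosure {g : G | ∀ ω : Ω, g • ω ≠ ω} := by
    apply le_antisymm Subgroup.closure_le_normalClosure
    unfold Subgroup.normalClosure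
    apply Subgroup.closure_mono
    intro x hx
    rw [Group.mem_conjugatesOfSet_iff] at hx
    obtain ⟨y, hy, hxy⟩ := hx
    obtain ⟨c, hc⟩ := isConj_iff.1 hxy
    intro ω hω
    apply hy (c⁻¹ • ω)
    rw [← hc] at hω
    calc y • c⁻¹ • ω = c⁻¹ • ((c * y * c⁻¹) • ω) := by simp [mul_smul]
      _ = c⁻¹ • ω := by rw [hω]
  rw [h]
  infer_instance

theorem burnside_natCard (K X : Type*) [Group K] [Fintype K] [MulAction K X] [Finite X] :
    ∑ g : K, Nat.card (fixedBy X g) = Nat.card (orbitRel.Quotient K X) * Nat.card K := by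
  classical
  have : Fintype (orbitRel.Quotient K X) := Fintype.ofFinite _
  have : ∀ g : K, Fintype (fixedBy X g) := fun g => Fintype.ofFinite _
  have h := sum_card_fixedBy_eq_card_orbits_mul_card_group K X
  simp only [Nat.card_eq_fintype_card]
  exact h

theorem sum_split_subgroup {G : Type*} [Group G] [Fintype G] (D : Subgroup G)
    [DecidablePred (· ∈ D)] (F : G → ℕ) :
    ∑ g : G, F g = ∑ d : D, F d + ∑ g ∈ Finset.univ.filter (fun g => g ∉ D), F g := by
  rw [← Finset.sum_filter_add_sum_filter_not Finset.univ (· ∈ D) F]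
  congr 1
  exact Finset.sum_subtype (Finset.univ.filter (· ∈ D)) (by simp) F

theorem card_compl_subgroup {G : Type*} [Group G] [Fintype G] (D : Subgroup G)
    [DecidablePred (· ∈ D)] :
    (Finset.univ.filter (fun g => g ∉ D)).card + Nat.card D = Nat.card G := by
  have h := sum_split_subgroup D (fun _ => 1)
  simp only [Finset.sum_const, smul_eq_mul, mul_one, Finset.card_univ] at h
  rw [Nat.card_eq_fintype_card, Nat.card_eq_fintype_card, h, add_comm]

section main
variable {G Ω : Type*} [Group G] [Finite G] [MulAction G Ω] [Finite Ω]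

theorem der_main [Nonempty Ω] [IsPretransitive G Ω] :
    Nat.card (orbitRel.Quotient (derSub G Ω) Ω) = 1 ∧
      ∀ g : G, g ∉ derSub G Ω → Nat.card (fixedBy Ω g) = 1 := by
  classical
  have := Fintype.ofFinite G
  have hG := burnside_natCard G Ω
  have hD := burnside_natCard (derSub G Ω) Ω
  have h1 : Nat.card (orbitRel.Quotient G Ω) = 1 := by
    obtain ⟨u⟩ := (pretransitive_iff_unique_quotient_of_nonempty G Ω).1 inferInstance
    exact Nat.card_unique
  rw [h1, one_mul, sum_split_subgroup (derSub G Ω)] at hG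
  have hfix : ∑ d : derSub G Ω, Nat.card (fixedBy Ω (d : G))
      = ∑ d : derSub G Ω, Nat.card (fixedBy Ω d) := rfl
  rw [hfix, hD] at hG
  have hge : ∀ g ∈ Finset.univ.filter (fun g => g ∉ derSub G Ω),
      (fun _ => 1) g ≤ Nat.card (fixedBy Ω g) := by
    intro g hg
    have hg' : g ∉ derSub G Ω := (Finset.mem_filter.1 hg).2
    have h2 : ¬ ∀ ω : Ω, g • ω ≠ ω := fun h => hg' (Subgroup.subset_closure h)
    push Not at h2
    obtain ⟨ω, hω⟩ := h2
    have : Nonempty (fixedBy Ω g) := ⟨⟨ω, hω⟩⟩
    exact Nat.card_pos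
  have hc := card_compl_subgroup (derSub G Ω)
  have hne : Nonempty (orbitRel.Quotient (derSub G Ω) Ω) :=
    ⟨Quotient.mk'' (Classical.arbitrary Ω)⟩
  have hk : 0 < Nat.card (orbitRel.Quotient (derSub G Ω) Ω) := Nat.card_pos
  have hDpos : 0 < Nat.card (derSub G Ω) := Nat.card_pos
  have hsum_ge := Finset.sum_le_sum hge
  simp only [Finset.sum_const, smul_eq_mul, mul_one] at hsum_ge
  have hkle : Nat.card (orbitRel.Quotient (derSub G Ω) Ω) * Nat.card (derSub G Ω)
      ≤ 1 * Nat.card (derSub G Ω) := by omega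
  have hk1 : Nat.card (orbitRel.Quotient (derSub G Ω) Ω) = 1 := by
    have := Nat.le_of_mul_le_mul_right hkle hDpos
    omega
  refine ⟨hk1, ?_⟩
  rw [hk1, one_mul] at hG
  have heq : ∑ g ∈ Finset.univ.filter (fun g => g ∉ derSub G Ω), (fun _ => 1) g
      = ∑ g ∈ Finset.univ.filter (fun g => g ∉ derSub G Ω), Nat.card (fixedBy Ω g) := by
    simp only [Finset.sum_const, smul_eq_mul, mul_one]
    omega
  have := (Finset.sum_eq_sum_iff_of_le hge).1 heq
  intro g hg
  exact (this g (Finset.mem_filter.2 ⟨Finset.mem_univ _, hg⟩)).symm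

theorem der_transitive [IsPretransitive G Ω] : IsPretransitive (derSub G Ω) Ω := by
  rcases isEmpty_or_nonempty Ω with h | h
  · exact ⟨fun x => isEmptyElim x⟩
  · rw [pretransitive_iff_subsingleton_quotient]
    exact (Nat.card_eq_one_iff_unique.1 (der_main (G := G) (Ω := Ω)).1).1

theorem mem_der_of_card_ne_one [IsPretransitive G Ω] (g : G)
    (hg : Nat.card (fixedBy Ω g) ≠ 1) : g ∈ derSub G Ω := by
  rcases isEmpty_or_nonempty Ω with h | h
  · exact Subgroup.subset_closure (fun ω => isEmptyElim ω)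
  · by_contra hcon
    exact hg ((der_main (G := G) (Ω := Ω)).2 g hcon)

theorem mem_der_of_fix_two [IsPretransitive G Ω] (g : G) (a b : Ω) (hab : b ≠ a)
    (ha : g • a = a) (hb : g • b = b) : g ∈ derSub G Ω := by
  apply mem_der_of_card_ne_one
  intro h
  have := (Nat.card_eq_one_iff_unique.1 h).1
  have h2 : (⟨a, ha⟩ : fixedBy Ω g) = ⟨b, hb⟩ := Subsingleton.elim _ _
  exact hab (congrArg Subtype.val h2).symm

theorem stabilizer_sup_der [IsPretransitive G Ω] (a : Ω) :
    stabilizer G a ⊔ derSub G Ω = ⊤ := by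
  rw [eq_top_iff]
  intro g _
  have := der_transitive (G := G) (Ω := Ω)
  obtain ⟨d, hd⟩ := exists_smul_eq (derSub G Ω) a (g • a)
  have h1 : (d : G)⁻¹ * g ∈ stabilizer G a := by
    rw [mem_stabilizer_iff, mul_smul, ← hd]
    exact inv_smul_smul (d : G) a
  have h2 : g = (d : G) * ((d : G)⁻¹ * g) := by group
  rw [h2]
  exact mul_mem (Subgroup.mem_sup_right d.2) (Subgroup.mem_sup_left h1)

theorem der_relIndex [IsPretransitive G Ω] (a : Ω) :
    (derSub G Ω).relIndex (stabilizer G a) = (derSub G Ω).index := by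
  rw [← Subgroup.relIndex_sup_right, stabilizer_sup_der, Subgroup.relIndex_top_right]

theorem stab_stab_le [IsPretransitive G Ω] (a b : Ω) (hab : b ≠ a) :
    stabilizer (stabilizer G a) b ≤ (derSub G Ω).subgroupOf (stabilizer G a) := by
  intro h hh
  rw [Subgroup.mem_subgroupOf]
  exact mem_der_of_fix_two (h : G) a b hab h.2 hh

theorem der_index_dvd [IsPretransitive G Ω] (a b : Ω) (hab : b ≠ a) :
    (derSub G Ω).index ∣ (stabilizer (stabilizer G a) b).index := by
  rw [← der_relIndex a]
  exact Subgroup.index_dvd_of_le (stab_stab_le a b hab)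

end main

theorem dvd_card_of_invariant {H X : Type*} [Group H] [MulAction H X] [Finite X] (i : ℕ)
    (Y : SubMulAction H X) (h : ∀ y ∈ Y, i ∣ (stabilizer H y).index) : i ∣ Nat.card Y := by
  classical
  have : Fintype (orbitRel.Quotient H Y) := Fintype.ofFinite _
  rw [Nat.card_congr (selfEquivSigmaOrbits H Y), Nat.card_sigma]
  apply Finset.dvd_sum
  intro ω _
  rw [Nat.card_coe_set_eq, ← index_stabilizer, SubMulAction.stabilizer_of_subMul]
  exact h _ (Quotient.out ω).2

theorem der_index_dvd_pred {G Ω : Type*} [Group G] [Finite G] [MulAction G Ω] [Finite Ω]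
    [IsPretransitive G Ω] (a : Ω) : (derSub G Ω).index ∣ Nat.card Ω - 1 := by
  have hdiv : ∀ y ∈ SubMulAction.ofStabilizer G a,
      (derSub G Ω).index ∣ (stabilizer (stabilizer G a) y).index :=
    fun y hy => der_index_dvd a y ((SubMulAction.mem_ofStabilizer_iff G a).1 hy)
  have h1 := dvd_card_of_invariant (derSub G Ω).index (SubMulAction.ofStabilizer G a) hdiv
  rwa [SubMulAction.nat_card_ofStabilizer_eq] at h1

end Cfsg.Agent.Lib.Helper20
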