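import Cfsg.Agent.Lib.Helper20.PrimeGraphExt

set_option autoImplicit false

namespace Cfsg.Agent.Lib.Helper20

universe u v

open Matrix

/-- `GL n F` acting diagonally on `k` copies of the column space. -/
def glActAdd (F : Type u) [Field F] (n k : ℕ) (A : GL (Fin n) F) :
    (Fin k → Fin n → F) ≃+ (Fin k → Fin n → F) where
  toFun w i := (A : Matrix (Fin n) (Fin n) F) *ᵥ w i
  invFun w i := ((A⁻¹ : GL (Fin n) F) : Matrix (Fin n) (Fin n) F) *ᵥ w i
  left_inv w := by
    funext i
    simp only [Matrix.mulVec_mulVec]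
    rw [← Units.val_mul, inv_mul_cancel, Units.val_one, Matrix.one_mulVec]
  right_inv w := by
    funext i
    simp only [Matrix.mulVec_mulVec]
    rw [← Units.val_mul, mul_inv_cancel, Units.val_one, Matrix.one_mulVec]
  map_add' w w' := by
    funext i
    simp [Matrix.mulVec_add]

def glAct (F : Type u) [Field F] (n k : ℕ) :
    GL (Fin n) F →* MulAut (Multiplicative (Fin k → Fin n → F)) where
  toFun A := AddEquiv.toMultiplicative (glActAdd F n k A)
  map_one' := by
    refine MulEquiv.ext fun w => ?_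
    apply Multiplicative.toAdd.injective
    funext i
    show ((1 : GL (Fin n) F) : Matrix (Fin n) (Fin n) F) *ᵥ (Multiplicative.toAdd w i) = _
    simp
  map_mul' A B := by
    refine MulEquiv.ext fun w => ?_
    apply Multiplicative.toAdd.injective
    funext i
    show ((A * B : GL (Fin n) F) : Matrix (Fin n) (Fin n) F) *ᵥ (Multiplicative.toAdd w i)
      = (A : Matrix (Fin n) (Fin n) F) *ᵥ ((B : Matrix (Fin n) (Fin n) F) *ᵥ (Multiplicative.toAdd w i))
    simp [Matrix.mulVec_mulVec]

theorem glAct_apply (F : Type u) [Field F] (n k : ℕ) (A : GL (Fin n) F)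
    (w : Multiplicative (Fin k → Fin n → F)) (i : Fin k) :
    Multiplicative.toAdd (glAct F n k A w) i
      = (A : Matrix (Fin n) (Fin n) F) *ᵥ (Multiplicative.toAdd w i) := rfl

theorem exists_large_samePG {F : Type u} [Field F] [Finite F] [CharP F 2] {n : ℕ} (hn : 0 < n)
    {L : Type v} [Group L] [Finite L] (ι : L →* GL (Fin n) F) (h2 : 2 ∣ Nat.card L)
    (hfpf : ∀ (g : L) (v : Fin n → F), v ≠ 0 → ((ι g : GL (Fin n) F) : Matrix (Fin n) (Fin n) F) *ᵥ v = v →
      ∀ s : ℕ, s.Prime → s ≠ 2 → orderOf g ≠ s) (N : ℕ) :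
    ∃ (H : Type) (_ : Group H) (_ : Fintype H), N < Fintype.card H ∧ SamePG L H := by
  classical
  let V := Multiplicative (Fin N → Fin n → F)
  let φ : L →* MulAut V := (glAct F n N).comp ι
  have hsame : SamePG L (V ⋊[φ] L) := by
    apply samePG_semidirect φ _ h2
    · intro g w hw hgw s hs hs2
      have hw0 : Multiplicative.toAdd w ≠ 0 := fun h => hw (Multiplicative.toAdd.injective h)
      obtain ⟨i, hi⟩ : ∃ i, Multiplicative.toAdd w i ≠ 0 := by
        by_contra hcon
        push Not at hcon
        exact hw0 (funext hcon)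
      refine hfpf g _ hi ?_ s hs hs2
      have := congrArg (fun x : V => (Multiplicative.toAdd x : Fin N → Fin n → F) i) hgw
      exact this
    · intro w
      apply Multiplicative.toAdd.injective
      show Multiplicative.toAdd w + Multiplicative.toAdd w = 0
      funext i j
      exact CharTwo.add_self_eq_zero _
  have : Finite (V ⋊[φ] L) := Finite.of_equiv _ SemidirectProduct.equivProd.symm
  obtain ⟨H, iG, iF, ⟨e⟩⟩ := exists_type0_copy (V ⋊[φ] L)
  refine ⟨H, iG, iF, ?_, hsame.trans (SamePG.of_mulEquiv e)⟩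
  rw [← Nat.card_eq_fintype_card, ← Nat.card_congr e.toEquiv, SemidirectProduct.card]
  have hL : 0 < Nat.card L := Nat.card_pos
  have hF : 2 ≤ Nat.card F := by
    have := Finite.one_lt_card (α := F)
    omega
  have hV : Nat.card V = (Nat.card F ^ n) ^ N := by
    show Nat.card (Fin N → Fin n → F) = _
    simp [Nat.card_fun]
  have h1 : 2 ^ N ≤ Nat.card V := by
    rw [hV]
    apply Nat.pow_le_pow_left
    calc 2 ≤ Nat.card F := hF
      _ = Nat.card F ^ 1 := (pow_one _).symm
      _ ≤ Nat.card F ^ n := Nat.pow_le_pow_right (by omega) hn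
  calc N < 2 ^ N := Nat.lt_two_pow_self
    _ ≤ Nat.card V := h1
    _ ≤ Nat.card V * Nat.card L := Nat.le_mul_of_pos_right _ hL

end Cfsg.Agent.Lib.Helper20
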