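import Mathlib
import Cfsg.Agent.Lib.Helper4.Subnormal

set_option autoImplicit false

namespace Cfsg.Agent.Lib.Helper20

open Cfsg.Agent.Lib.Helper4

universe u

/-- If `N` is a minimal normal subgroup of `G` and `L` is a minimal normal subgroup of `N`,
then `L` has a normal complement in `N` (so `N = L × K`). -/
theorem minNormal_exists_compl {G : Type u} [Group G] [Finite G] {N : Subgroup G}
    (hN : IsMinNormal N) {L : Subgroup ↥N} (hL : IsMinNormal L) :
    ∃ K : Subgroup ↥N, K.Normal ∧ L ⊓ K = ⊥ ∧ L ⊔ K = ⊤ := by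
  obtain ⟨hNn, hNb, hNmin⟩ := hN
  have hLn : L.Normal := hL.1
  -- maximal normal K with L ⊓ K = ⊥
  obtain ⟨K, hK⟩ := (Set.toFinite {K : Subgroup ↥N | K.Normal ∧ L ⊓ K = ⊥}).exists_maximal
    ⟨⊥, by constructor <;> simp [Subgroup.normal_bot]⟩
  obtain ⟨⟨hKn, hKL⟩, hKmax⟩ := hK
  refine ⟨K, hKn, hKL, ?_⟩
  by_contra hne
  -- some conjugate of L is not inside L ⊔ K
  have hex : ∃ g : G, ¬ L.map (MulAut.conjNormal g : ↥N ≃* ↥N).toMonoidHom ≤ L ⊔ K := by
    by_contra hall
    push Not at hall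
    apply hne
    have hM : Subgroup.normalClosure ((L.map N.subtype : Subgroup G) : Set G) = N := by
      have hle : Subgroup.normalClosure ((L.map N.subtype : Subgroup G) : Set G) ≤ N :=
        Subgroup.normalClosure_le_normal (by
          intro x hx
          obtain ⟨y, -, rfl⟩ := hx
          exact y.2)
      rcases hNmin _ inferInstance hle with h | h
      · exfalso
        apply hL.2.1
        rw [eq_bot_iff]
        intro x hx
        have : (x : G) ∈ Subgroup.normalClosure ((L.map N.subtype : Subgroup G) : Set G) :=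
          Subgroup.subset_normalClosure ⟨x, hx, rfl⟩
        rw [h, Subgroup.mem_bot] at this
        rw [Subgroup.mem_bot]
        exact Subtype.ext this
      · exact h
    have hle2 : Subgroup.normalClosure ((L.map N.subtype : Subgroup G) : Set G) ≤
        (L ⊔ K).map N.subtype := by
      unfold Subgroup.normalClosure
      rw [Subgroup.closure_le]
      intro x hx
      rw [Group.mem_conjugatesOfSet_iff] at hx
      obtain ⟨y, hy, hxy⟩ := hx
      obtain ⟨c, hc⟩ := isConj_iff.1 hxy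
      obtain ⟨z, hz, rfl⟩ := hy
      refine ⟨MulAut.conjNormal c z, hall c ⟨z, hz, rfl⟩, ?_⟩
      rw [← hc]
      simp
    rw [hM] at hle2
    rw [eq_top_iff]
    intro x _
    obtain ⟨y, hy, hyx⟩ := hle2 x.2
    have : y = x := Subtype.ext hyx
    rw [← this]; exact hy
  obtain ⟨g, hg⟩ := hex
  set L' := L.map (MulAut.conjNormal g : ↥N ≃* ↥N).toMonoidHom with hL'
  have hL'm : IsMinNormal L' := hL.map_equiv _
  have hL'n : L'.Normal := hL'm.1
  have hdis : L' ⊓ (L ⊔ K) = ⊥ := by
    rcases hL'm.2.2 (L' ⊓ (L ⊔ K)) inferInstance inf_le_left with h | h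
    · exact h
    · exact absurd (h ▸ inf_le_right) hg
  have hK' : (K ⊔ L') ∈ {K : Subgroup ↥N | K.Normal ∧ L ⊓ K = ⊥} := by
    refine ⟨inferInstance, ?_⟩
    rw [eq_bot_iff]
    rintro x ⟨hxL, hxK⟩
    have hxK' : x ∈ ((K ⊔ L' : Subgroup ↥N) : Set ↥N) := hxK
    rw [Subgroup.mul_normal] at hxK'
    obtain ⟨k, hk, l, hl, hkl⟩ := hxK'
    have hl1 : l ∈ L' ⊓ (L ⊔ K) := by
      refine ⟨hl, ?_⟩
      have : l = k⁻¹ * x := by rw [← hkl]; group
      rw [this]
      exact (L ⊔ K).mul_mem ((L ⊔ K).inv_mem (Subgroup.mem_sup_right hk)) (Subgroup.mem_sup_left hxL)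
    rw [hdis, Subgroup.mem_bot] at hl1
    have hxk : x = k := by rw [← hkl]; simp [hl1]
    have : x ∈ L ⊓ K := ⟨hxL, hxk ▸ hk⟩
    rw [hKL] at this
    exact this
  have hle := hKmax hK' le_sup_left
  exact hg ((le_sup_right.trans hle).trans le_sup_right)

end Cfsg.Agent.Lib.Helper20
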