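import Mathlib

set_option autoImplicit false

namespace Cfsg.Agent.Lib.Helper20

universe u v w

/-- Same prime graph: same prime divisors of the order and same joined pairs. -/
def SamePG (A : Type u) (B : Type v) [Group A] [Group B] : Prop :=
  (∀ r : ℕ, r.Prime → (r ∣ Nat.card A ↔ r ∣ Nat.card B)) ∧
  (∀ r s : ℕ, r.Prime → s.Prime → r ≠ s →
    ((∃ x : A, orderOf x = r * s) ↔ (∃ y : B, orderOf y = r * s)))

theorem SamePG.symm {A : Type u} {B : Type v} [Group A] [Group B] (h : SamePG A B) : SamePG B A :=
  ⟨fun r hr => (h.1 r hr).symm, fun r s hr hs hrs => (h.2 r s hr hs hrs).symm⟩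

theorem SamePG.trans {A : Type u} {B : Type v} {C : Type w} [Group A] [Group B] [Group C]
    (h : SamePG A B) (h' : SamePG B C) : SamePG A C :=
  ⟨fun r hr => (h.1 r hr).trans (h'.1 r hr),
   fun r s hr hs hrs => (h.2 r s hr hs hrs).trans (h'.2 r s hr hs hrs)⟩

theorem SamePG.of_mulEquiv {A : Type u} {B : Type v} [Group A] [Group B] (e : A ≃* B) :
    SamePG A B := by
  refine ⟨fun r _ => by rw [Nat.card_congr e.toEquiv], fun r s _ _ _ => ⟨?_, ?_⟩⟩
  · rintro ⟨x, hx⟩
    exact ⟨e x, by rw [MulEquiv.orderOf_eq, hx]⟩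
  · rintro ⟨y, hy⟩
    exact ⟨e.symm y, by rw [MulEquiv.orderOf_eq, hy]⟩

/-- Every finite group has a copy in `Type`. -/
theorem exists_type0_copy (H : Type u) [Group H] [Finite H] :
    ∃ (H' : Type) (_ : Group H') (_ : Fintype H'), Nonempty (H ≃* H') := by
  let e : Fin (Nat.card H) ≃ H := (Finite.equivFin H).symm
  refine ⟨Fin (Nat.card H), e.group, inferInstance, ⟨?_⟩⟩
  exact @MulEquiv.mk H (Fin (Nat.card H)) _ e.mul e.symm (fun x y => by
    show e.symm (x * y) = e.symm (e (e.symm x) * e (e.symm y))
    simp)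

open SemidirectProduct in
/-- If elements of odd prime order of `L` act fixed-point-freely on the elementary abelian
2-group `V`, and `L` has even order, then `V ⋊ L` has the same prime graph as `L`. -/
theorem samePG_semidirect {L : Type u} [Group L] [Finite L] {V : Type v} [CommGroup V] [Finite V]
    (φ : L →* MulAut V) (hV2 : ∀ v : V, v * v = 1) (h2 : 2 ∣ Nat.card L)
    (hfpf : ∀ (g : L) (v : V), v ≠ 1 → φ g v = v → ∀ s : ℕ, s.Prime → s ≠ 2 → orderOf g ≠ s) :
    SamePG L (V ⋊[φ] L) := by
  constructor
  · intro r hr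
    rw [SemidirectProduct.card]
    constructor
    · exact fun h => Dvd.dvd.mul_left h _
    · intro h
      rcases (Nat.Prime.dvd_mul hr).1 h with h | h
      · have := Fact.mk hr
        obtain ⟨v, hv⟩ := exists_prime_orderOf_dvd_card' r h
        have : orderOf v ∣ 2 := orderOf_dvd_of_pow_eq_one (by rw [pow_two]; exact hV2 v)
        rw [hv] at this
        have : r = 2 := (Nat.prime_dvd_prime_iff_eq hr Nat.prime_two).1 this
        rwa [this]
      · exact h
  · intro r s hr hs hrs
    constructor
    · rintro ⟨x, hx⟩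
      exact ⟨inr x, by rw [orderOf_injective _ inr_injective, hx]⟩
    · rintro ⟨y, hy⟩
      set g : L := rightHom y with hg
      set n := orderOf g with hn
      have hn_dvd : n ∣ r * s := by
        rw [← hy, hn, hg]
        exact orderOf_map_dvd _ y
      have hker : y ^ n ∈ (rightHom : V ⋊[φ] L →* L).ker := by
        rw [MonoidHom.mem_ker, map_pow, ← hg, hn, pow_orderOf_eq_one]
      rw [← range_inl_eq_ker_rightHom] at hker
      obtain ⟨w, hw⟩ := hker
      have h2n : y ^ (n * 2) = 1 := by
        rw [pow_mul, ← hw, pow_two, ← map_mul, hV2, map_one]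
      have hdvd2 : r * s ∣ n * 2 := by
        rw [← hy]; exact orderOf_dvd_of_pow_eq_one h2n
      -- `y` commutes with `inl w`
      have hcomm : y * inl w * y⁻¹ = inl w := by
        rw [hw]; group
      have hact : φ g w = w := by
        have h1 : y * inl w * y⁻¹ = inl (φ g w) := by
          ext
          · simp only [mul_left, mul_right, left_inl, right_inl, inv_left, mul_one,
              hg, rightHom_eq_right]
            simp
          · simp
        rw [h1] at hcomm
        exact inl_injective hcomm
      by_cases hnrs : n = r * s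
      · exact ⟨g, hnrs⟩
      exfalso
      have hw1 : ∀ t : ℕ, n = t → t ∣ r * s → t ≠ r * s → w ≠ 1 := by
        intro t ht _ _ hw'
        rw [hw', map_one] at hw
        have : r * s ∣ n := by rw [← hy]; exact orderOf_dvd_of_pow_eq_one hw.symm
        exact hnrs (Nat.dvd_antisymm hn_dvd this)
      have hwne : w ≠ 1 := hw1 n rfl hn_dvd hnrs
      -- the divisors of r*s
      have hcases : n = 1 ∨ n = r ∨ n = s ∨ n = r * s := by
        have := (Nat.dvd_mul).1 hn_dvd
        obtain ⟨a, b, ha, hb, hab⟩ := this
        rcases (Nat.dvd_prime hr).1 ha with rfl | rfl <;>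
        rcases (Nat.dvd_prime hs).1 hb with rfl | rfl <;> simp [← hab]
      have hr2 := hr.two_le
      have hs2 := hs.two_le
      rcases hcases with h | h | h | h
      · rw [h] at hdvd2
        have := Nat.le_of_dvd (by norm_num) hdvd2
        have h4 : 2 * 2 ≤ r * s := Nat.mul_le_mul hr2 hs2
        omega
      · rw [h] at hdvd2
        have : s ∣ 2 := Nat.dvd_of_mul_dvd_mul_left hr.pos hdvd2
        have hs' : s = 2 := (Nat.prime_dvd_prime_iff_eq hs Nat.prime_two).1 this
        exact hfpf g w hwne hact r hr (by omega) h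
      · rw [h, mul_comm r s] at hdvd2
        have : r ∣ 2 := Nat.dvd_of_mul_dvd_mul_left hs.pos hdvd2
        have hr' : r = 2 := (Nat.prime_dvd_prime_iff_eq hr Nat.prime_two).1 this
        exact hfpf g w hwne hact s hs (by omega) h
      · exact hnrs h

end Cfsg.Agent.Lib.Helper20
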