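import Mathlib
import Cfsg.Agent.S3733

set_option autoImplicit false

namespace Cfsg.Agent.Lib.Helper20

open Subgroup
open scoped Pointwise

universe u

section basic
variable {X : Type u} [Group X]

/-- a nontrivial `p`-element has a power of order `p` -/
theorem exists_pow_orderOf_eq_prime {p : ℕ} (hp : p.Prime) {x : X} (hx : x ≠ 1) (k : ℕ)
    (hk : x ^ p ^ k = 1) : ∃ n : ℕ, orderOf (x ^ n) = p := by
  obtain ⟨j, hj⟩ := (Nat.dvd_prime_pow hp).1 (orderOf_dvd_of_pow_eq_one hk)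
  have hj0 : j ≠ 0 := by
    rintro rfl
    rw [pow_zero, orderOf_eq_one_iff] at hj
    exact hx hj.2
  obtain ⟨i, rfl⟩ := Nat.exists_eq_succ_of_ne_zero hj0
  refine ⟨p ^ i, ?_⟩
  rw [orderOf_pow_of_dvd (pow_ne_zero _ hp.ne_zero)
    (by rw [hj.2]; exact pow_dvd_pow _ (Nat.le_succ i)), hj.2, pow_succ,
    Nat.mul_div_cancel_left _ (pow_pos hp.pos i)]

theorem exists_orderOf_mul {p q : ℕ} (hp : p.Prime) (hq : q.Prime) (hpq : p ≠ q) {x y : X}
    (hx : x ≠ 1) (hy : y ≠ 1) (hxp : ∃ k, x ^ p ^ k = 1) (hyq : ∃ k, y ^ q ^ k = 1)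
    (hc : Commute x y) : ∃ z : X, orderOf z = p * q := by
  obtain ⟨k, hk⟩ := hxp
  obtain ⟨l, hl⟩ := hyq
  obtain ⟨m, hm⟩ := exists_pow_orderOf_eq_prime hp hx k hk
  obtain ⟨n, hn⟩ := exists_pow_orderOf_eq_prime hq hy l hl
  refine ⟨x ^ m * y ^ n, ?_⟩
  rw [(hc.pow_pow m n).orderOf_mul_eq_mul_orderOf_of_coprime
    (by rw [hm, hn]; exact (Nat.coprime_primes hp hq).2 hpq), hm, hn]

theorem isPGroup_mem {p : ℕ} {P : Subgroup X} (hP : IsPGroup p P) {x : X} (hx : x ∈ P) :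
    ∃ k, x ^ p ^ k = 1 := by
  obtain ⟨k, hk⟩ := hP ⟨x, hx⟩
  exact ⟨k, by simpa using congrArg Subtype.val hk⟩

theorem le_normalizer_of_conj_mem' (J K : Subgroup X)
    (h : ∀ c ∈ K, ∀ x ∈ J, c * x * c⁻¹ ∈ J) : K ≤ normalizer (J : Set X) := by
  intro c hc
  rw [Subgroup.mem_normalizer_iff]
  intro x
  refine ⟨h c hc x, fun hx => ?_⟩
  have := h c⁻¹ (K.inv_mem hc) _ hx
  simpa [mul_assoc] using this

theorem eq_zpowers_of_prime_card {r : ℕ} (hr : r.Prime) (B : Subgroup X) (hB : Nat.card B = r)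
    {a : X} (ha : a ∈ B) (ha1 : a ≠ 1) : B = zpowers a := by
  have : Fact r.Prime := ⟨hr⟩
  have hfin : Finite B := Nat.finite_of_card_ne_zero (by rw [hB]; exact hr.ne_zero)
  symm
  apply Subgroup.eq_of_le_of_card_ge (zpowers_le.2 ha)
  rw [hB, Nat.card_zpowers]
  have h1 : orderOf a ∣ r := by
    have := orderOf_dvd_natCard (⟨a, ha⟩ : B)
    rwa [hB, ← Subgroup.orderOf_coe] at this
  rcases (Nat.dvd_prime hr).1 h1 with h | h
  · exact absurd (orderOf_eq_one_iff.1 h) ha1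
  · exact h.ge

end basic

/-- the core configuration: `R` of prime order acts on a `q`-group `Q`, both act on a `p`-group -/
theorem core_adj {X : Type u} [Group X] [Finite X] {p q r : ℕ} (hp : p.Prime) (hq : q.Prime)
    (hr : r.Prime) (hpq : p ≠ q) (hpr : p ≠ r) (hqr : q ≠ r)
    (P Q R : Subgroup X) (hP : IsPGroup p P) (hP1 : P ≠ ⊥) (hQ : IsPGroup q Q) (hQ1 : Q ≠ ⊥)
    (hR : Nat.card R = r) (hQP : Q ≤ normalizer (P : Set X)) (hRP : R ≤ normalizer (P : Set X))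
    (hRQ : R ≤ normalizer (Q : Set X)) :
    (∃ x : X, orderOf x = p * q) ∨ (∃ x : X, orderOf x = p * r) ∨ (∃ x : X, orderOf x = q * r) := by
  classical
  by_contra hcon
  push Not at hcon
  obtain ⟨hn1, hn2, hn3⟩ := hcon
  have := Fact.mk hp
  have := Fact.mk hq
  have := Fact.mk hr
  have hRp : IsPGroup r R := IsPGroup.of_card (hR.trans (pow_one r).symm)
  -- the centre of P
  let V : Subgroup X := P ⊓ centralizer (P : Set X)
  have hVab : IsMulCommutative V := by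
    refine ⟨⟨fun a b => Subtype.ext ?_⟩⟩
    exact mem_centralizer_iff.1 (mem_inf.1 b.2).2 a (mem_inf.1 a.2).1
  have hV1 : V ≠ ⊥ := by
    have hnt : Nontrivial P := (Subgroup.nontrivial_iff_ne_bot P).2 hP1
    have hc := hP.center_nontrivial
    obtain ⟨z, hz⟩ := exists_ne (1 : center P)
    intro hbot
    have hzV : ((z : P) : X) ∈ V := by
      refine mem_inf.2 ⟨z.1.2, ?_⟩
      rw [mem_centralizer_iff]
      intro h hh
      exact congrArg Subtype.val (Subgroup.mem_center_iff.1 z.2 ⟨h, hh⟩)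
    rw [hbot, mem_bot] at hzV
    apply hz
    apply Subtype.ext
    apply Subtype.ext
    exact hzV
  have hNV : normalizer (P : Set X) ≤ normalizer (V : Set X) := by
    apply le_normalizer_of_conj_mem'
    intro g hg v hv
    have hv1 := (mem_inf.1 hv).1
    have hv2 := (mem_inf.1 hv).2
    refine mem_inf.2 ⟨(mem_normalizer_iff.1 hg v).1 hv1, ?_⟩
    rw [mem_centralizer_iff]
    intro h hh
    have h1 : g⁻¹ * h * g ∈ P := (mem_normalizer_iff''.1 hg h).1 hh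
    have h2 := mem_centralizer_iff.1 hv2 _ h1
    calc h * (g * v * g⁻¹) = g * ((g⁻¹ * h * g) * v) * g⁻¹ := by group
      _ = g * (v * (g⁻¹ * h * g)) * g⁻¹ := by rw [h2]
      _ = g * v * g⁻¹ * h := by group
  have hVp : IsPGroup p V := hP.to_le inf_le_left
  have hAV : Q ⊔ R ≤ normalizer (V : Set X) := sup_le (hQP.trans hNV) (hRP.trans hNV)
  have hfixQ : ∀ x ∈ Q, ∀ ρ ∈ R, ρ ≠ 1 → Commute x ρ → x = 1 := by
    intro x hx ρ hρ hρ1 hc
    by_contra hx1
    obtain ⟨z, hz⟩ := exists_orderOf_mul hq hr hqr hx1 hρ1 (isPGroup_mem hQ hx)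
      (isPGroup_mem hRp hρ) hc
    exact hn3 z hz
  have hdisj : ∀ (y : X) (x : X), x ∈ Q → x ∈ MulAut.conj y • R → x = 1 := by
    intro y x hx hxR
    have hRy : IsPGroup r (MulAut.conj y • R : Subgroup X) :=
      hRp.of_equiv (Subgroup.equivSMul (MulAut.conj y) R)
    have := IsPGroup.disjoint_of_ne q r hqr Q _ hQ hRy
    exact (Subgroup.disjoint_def.1 this) hx hxR
  have hdisj1 : ∀ x : X, x ∈ Q → x ∈ R → x = 1 := by
    intro x hx hxR
    exact (Subgroup.disjoint_def.1 (IsPGroup.disjoint_of_ne q r hqr Q R hQ hRp)) hx hxR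
  obtain ⟨ρ₀, hρ₀, hρ₀1⟩ : ∃ ρ₀ ∈ R, ρ₀ ≠ 1 := by
    have hnt : Nontrivial R := by
      rw [← Finite.one_lt_card_iff_nontrivial, hR]
      exact hr.one_lt
    obtain ⟨z, hz⟩ := exists_ne (1 : R)
    exact ⟨z, z.2, fun h => hz (Subtype.ext h)⟩
  obtain ⟨x₀, hx₀, hx₀1⟩ : ∃ x₀ ∈ Q, x₀ ≠ 1 := by
    have hnt : Nontrivial Q := (Subgroup.nontrivial_iff_ne_bot Q).2 hQ1
    obtain ⟨z, hz⟩ := exists_ne (1 : Q)
    exact ⟨z, z.2, fun h => hz (Subtype.ext h)⟩
  have hcardRy : ∀ y : X, Nat.card (MulAut.conj y • R : Subgroup X) = r := by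
    intro y
    rw [← hR]
    exact (Nat.card_congr (Subgroup.equivSMul (MulAut.conj y) R).toEquiv).symm
  have : Fintype Q := Fintype.ofFinite Q
  let F : Q → Subgroup X := fun y => MulAut.conj (y : X) • R
  have hFinj : Function.Injective F := by
    intro y z hyz
    have hyz' : MulAut.conj (y : X) • R = MulAut.conj (z : X) • R := hyz
    have h1 : (y : X) * ρ₀ * (y : X)⁻¹ ∈ MulAut.conj (z : X) • R := hyz' ▸ ⟨ρ₀, hρ₀, rfl⟩
    obtain ⟨ρ₁, hρ₁, he⟩ := h1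
    have he' : (z : X) * ρ₁ * (z : X)⁻¹ = (y : X) * ρ₀ * (y : X)⁻¹ := he
    -- w = z⁻¹ y
    have h2 : ((z : X)⁻¹ * y) * ρ₀ * ((z : X)⁻¹ * y)⁻¹ = ρ₁ := by
      calc ((z : X)⁻¹ * y) * ρ₀ * ((z : X)⁻¹ * y)⁻¹ = (z : X)⁻¹ * ((y : X) * ρ₀ * (y : X)⁻¹) * z := by
            group
        _ = (z : X)⁻¹ * ((z : X) * ρ₁ * (z : X)⁻¹) * z := by rw [he']
        _ = ρ₁ := by group
    have hw : (z : X)⁻¹ * y ∈ Q := Q.mul_mem (Q.inv_mem z.2) y.2
    have h3 : ((z : X)⁻¹ * y) * (ρ₀ * ((z : X)⁻¹ * y)⁻¹ * ρ₀⁻¹) ∈ Q :=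
      Q.mul_mem hw ((mem_normalizer_iff.1 (hRQ hρ₀) _).1 (Q.inv_mem hw))
    have h4 : ((z : X)⁻¹ * y) * (ρ₀ * ((z : X)⁻¹ * y)⁻¹ * ρ₀⁻¹) ∈ R := by
      have : ((z : X)⁻¹ * y) * (ρ₀ * ((z : X)⁻¹ * y)⁻¹ * ρ₀⁻¹) = ρ₁ * ρ₀⁻¹ := by
        rw [← h2]; group
      rw [this]
      exact R.mul_mem hρ₁ (R.inv_mem hρ₀)
    have h5 := hdisj1 _ h3 h4
    have h6 : Commute ((z : X)⁻¹ * y) ρ₀ := by
      show ((z : X)⁻¹ * y) * ρ₀ = ρ₀ * ((z : X)⁻¹ * y)
      calc ((z : X)⁻¹ * y) * ρ₀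
          = (((z : X)⁻¹ * y) * (ρ₀ * ((z : X)⁻¹ * y)⁻¹ * ρ₀⁻¹)) * (ρ₀ * ((z : X)⁻¹ * y)) := by group
        _ = ρ₀ * ((z : X)⁻¹ * y) := by rw [h5, one_mul]
    have h7 := hfixQ _ hw ρ₀ hρ₀ hρ₀1 h6
    apply Subtype.ext
    rw [inv_mul_eq_one] at h7
    exact h7.symm
  let 𝒜 : Finset (Subgroup X) := insert Q (Finset.univ.image F)
  have hQnot : Q ∉ Finset.univ.image F := by
    intro h
    obtain ⟨y, -, hy⟩ := Finset.mem_image.1 h
    have hy' : MulAut.conj (y : X) • R = Q := hy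
    exact hx₀1 (hdisj y x₀ hx₀ (by rw [hy']; exact hx₀))
  have hcard : 𝒜.card - 1 = Nat.card Q := by
    rw [Finset.card_insert_of_notMem hQnot, Finset.card_image_of_injective _ hFinj,
      Finset.card_univ, Nat.card_eq_fintype_card]
    simp
  have hmemA : ∀ B, B ∈ 𝒜 ↔ B = Q ∨ ∃ y ∈ Q, B = MulAut.conj y • R := by
    intro B
    rw [Finset.mem_insert, Finset.mem_image]
    constructor
    · rintro (h | ⟨y, -, hy⟩)
      · exact Or.inl h
      · exact Or.inr ⟨y, y.2, hy.symm⟩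
    · rintro (h | ⟨y, hy, hB⟩)
      · exact Or.inl h
      · exact Or.inr ⟨⟨y, hy⟩, Finset.mem_univ _, hB.symm⟩
  have hprop : ∀ B ∈ 𝒜, B < Q ⊔ R := by
    intro B hB
    rcases (hmemA B).1 hB with rfl | ⟨y, hy, rfl⟩
    · refine lt_of_le_of_ne le_sup_left ?_
      intro h
      have : ρ₀ ∈ B := h ▸ (mem_sup_right hρ₀)
      exact hρ₀1 (hdisj1 ρ₀ this hρ₀)
    · refine lt_of_le_of_ne ?_ ?_
      · rintro _ ⟨ρ, hρ, rfl⟩
        exact mul_mem (mul_mem (mem_sup_left hy) (mem_sup_right hρ)) (inv_mem (mem_sup_left hy))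
      · intro h
        have : x₀ ∈ MulAut.conj y • R := h ▸ (mem_sup_left hx₀)
        exact hx₀1 (hdisj y x₀ hx₀ this)
  have hpart : ∀ a ∈ Q ⊔ R, a ≠ 1 → ∃! B, B ∈ 𝒜 ∧ a ∈ B := by
    intro a ha ha1
    have ha' : a ∈ ((Q ⊔ R : Subgroup X) : Set X) := ha
    rw [coe_mul_of_right_le_normalizer_left Q R hRQ] at ha'
    obtain ⟨x, hx, ρ, hρ, rfl⟩ := Set.mem_mul.1 ha'
    have hex : ∃ B, B ∈ 𝒜 ∧ x * ρ ∈ B := by
      by_cases hρ1 : ρ = 1
      · exact ⟨Q, (hmemA Q).2 (Or.inl rfl), by rw [hρ1, mul_one]; exact hx⟩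
      · let f : Q → Q := fun y => ⟨(y : X) * (ρ * (y : X)⁻¹ * ρ⁻¹),
          Q.mul_mem y.2 ((mem_normalizer_iff.1 (hRQ hρ) _).1 (Q.inv_mem y.2))⟩
        have hfinj : Function.Injective f := by
          intro y z hyz
          have h1 : (y : X) * (ρ * (y : X)⁻¹ * ρ⁻¹) = (z : X) * (ρ * (z : X)⁻¹ * ρ⁻¹) :=
            congrArg Subtype.val hyz
          have hw : (z : X)⁻¹ * y ∈ Q := Q.mul_mem (Q.inv_mem z.2) y.2
          have h6 : Commute ((z : X)⁻¹ * y) ρ := by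
            show ((z : X)⁻¹ * y) * ρ = ρ * ((z : X)⁻¹ * y)
            calc ((z : X)⁻¹ * y) * ρ
                = (z : X)⁻¹ * ((y : X) * (ρ * (y : X)⁻¹ * ρ⁻¹)) * ρ * y := by group
              _ = (z : X)⁻¹ * ((z : X) * (ρ * (z : X)⁻¹ * ρ⁻¹)) * ρ * y := by rw [h1]
              _ = ρ * ((z : X)⁻¹ * y) := by group
          have h7 := hfixQ _ hw ρ hρ hρ1 h6
          apply Subtype.ext
          rw [inv_mul_eq_one] at h7
          exact h7.symm
        obtain ⟨y, hy⟩ := (Finite.injective_iff_surjective.1 hfinj) ⟨x, hx⟩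
        have hy' : (y : X) * (ρ * (y : X)⁻¹ * ρ⁻¹) = x := congrArg Subtype.val hy
        refine ⟨MulAut.conj (y : X) • R, (hmemA _).2 (Or.inr ⟨y, y.2, rfl⟩), ρ, hρ, ?_⟩
        show (y : X) * ρ * (y : X)⁻¹ = x * ρ
        rw [← hy']; group
    obtain ⟨B, hB, haB⟩ := hex
    refine ⟨B, ⟨hB, haB⟩, ?_⟩
    rintro B' ⟨hB', haB'⟩
    rcases (hmemA B).1 hB with rfl | ⟨y, hy, rfl⟩
    · rcases (hmemA B').1 hB' with rfl | ⟨y', hy', rfl⟩
      · rfl
      · exact absurd (hdisj y' _ haB haB') ha1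
    · rcases (hmemA B').1 hB' with rfl | ⟨y', hy', rfl⟩
      · exact absurd (hdisj y _ haB' haB) ha1
      · rw [eq_zpowers_of_prime_card hr _ (hcardRy y) haB ha1,
          eq_zpowers_of_prime_card hr _ (hcardRy y') haB' ha1]
  have hk : (𝒜.card - 1).Coprime (Nat.card V) := by
    rw [hcard]
    exact IsPGroup.coprime_card_of_ne q p hpq.symm Q V hQ hVp
  obtain ⟨B, hB, hBV⟩ := Cfsg.Agent.S3733.result (Q ⊔ R) V hVab hV1 hAV 𝒜
    ⟨Q, (hmemA Q).2 (Or.inl rfl)⟩ hprop hpart hk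
  obtain ⟨v, hv, hv1⟩ : ∃ v ∈ V ⊓ centralizer (B : Set X), v ≠ 1 := by
    by_contra hcon
    push Not at hcon
    apply hBV
    rw [eq_bot_iff]
    intro v hv
    exact mem_bot.2 (hcon v hv)
  have hvV := (mem_inf.1 hv).1
  have hvC := (mem_inf.1 hv).2
  rcases (hmemA B).1 hB with rfl | ⟨y, hy, rfl⟩
  · obtain ⟨z, hz⟩ := exists_orderOf_mul hp hq hpq hv1 hx₀1 (isPGroup_mem hVp hvV)
      (isPGroup_mem hQ hx₀) (mem_centralizer_iff.1 hvC x₀ hx₀).symm
    exact hn1 z hz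
  · have hmem : y * ρ₀ * y⁻¹ ∈ MulAut.conj y • R := ⟨ρ₀, hρ₀, rfl⟩
    have hne : y * ρ₀ * y⁻¹ ≠ 1 := by
      intro h
      apply hρ₀1
      have : ρ₀ = y⁻¹ * (y * ρ₀ * y⁻¹) * y := by group
      rw [this, h]; group
    have hRy : IsPGroup r (MulAut.conj y • R : Subgroup X) :=
      hRp.of_equiv (Subgroup.equivSMul (MulAut.conj y) R)
    obtain ⟨z, hz⟩ := exists_orderOf_mul hp hr hpr hv1 hne (isPGroup_mem hVp hvV)
      (isPGroup_mem hRy hmem) (mem_centralizer_iff.1 hvC _ hmem).symm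
    exact hn2 z hz

theorem card_subgroupOf_of_le' {G : Type u} [Group G] {H K : Subgroup G} (h : H ≤ K) :
    Nat.card (H.subgroupOf K) = Nat.card H :=
  Nat.card_congr (subgroupOfEquivOfLe h).toEquiv

theorem card_div_card_eq_relIndex {G : Type u} [Group G] [Finite G] {H K : Subgroup G} (h : H ≤ K) :
    Nat.card K / Nat.card H = H.relIndex K := by
  have h1 := (H.subgroupOf K).index_mul_card
  rw [card_subgroupOf_of_le' h] at h1
  rw [← h1]
  exact Nat.mul_div_cancel _ Nat.card_pos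

/-- second step: a normal `p`-subgroup, a normal subgroup of order divisible by `q` and of index
divisible by `r` -/
theorem adj_of_normal_pgroup {X : Type u} [Group X] [Finite X] {p q r : ℕ} (hp : p.Prime)
    (hq : q.Prime) (hr : r.Prime) (hpq : p ≠ q) (hpr : p ≠ r) (hqr : q ≠ r)
    (P M : Subgroup X) [P.Normal] [M.Normal] (hP : IsPGroup p P) (hP1 : P ≠ ⊥)
    (hqM : q ∣ Nat.card M) (hrM : r ∣ M.index) :
    (∃ x : X, orderOf x = p * q) ∨ (∃ x : X, orderOf x = p * r) ∨ (∃ x : X, orderOf x = q * r) := by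
  have := Fact.mk hq
  have := Fact.mk hr
  let Q : Sylow q M := default
  have hQ1 : (Q : Subgroup M) ≠ ⊥ := Q.ne_bot_of_dvd_card hqM
  have hQ01 : (Q : Subgroup M).map M.subtype ≠ ⊥ := by
    rw [Ne, Subgroup.map_eq_bot_iff_of_injective _ M.subtype_injective]
    exact hQ1
  have hQ0 : IsPGroup q ((Q : Subgroup M).map M.subtype) := Q.2.map _
  have hfr := Sylow.normalizer_sup_eq_top Q
  have h1 : M.relIndex (normalizer (((Q : Subgroup M).map M.subtype : Subgroup X) : Set X))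
      = M.index := by
    rw [← relIndex_sup_right, hfr, relIndex_top_right]
  have h2 : r ∣ Nat.card (normalizer (((Q : Subgroup M).map M.subtype : Subgroup X) : Set X)) :=
    (h1 ▸ hrM).trans (relIndex_dvd_card _ _)
  obtain ⟨ρ, hρ⟩ := exists_prime_orderOf_dvd_card' r h2
  have hPn : normalizer (P : Set X) = ⊤ := normalizer_eq_top P
  apply core_adj hp hq hr hpq hpr hqr P ((Q : Subgroup M).map M.subtype) (zpowers (ρ : X))
    hP hP1 hQ0 hQ01
  · rw [Nat.card_zpowers, Subgroup.orderOf_coe, hρ]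
  · rw [hPn]; exact le_top
  · rw [hPn]; exact le_top
  · rw [zpowers_le]; exact ρ.2

/-- the statement of S3634 -/
theorem adj_of_normal_series {G : Type u} [Group G] [Finite G] (K M : Subgroup G) [K.Normal]
    [M.Normal] (hKM : K ≤ M) (p q r : ℕ) (hp : p.Prime) (hq : q.Prime) (hr : r.Prime)
    (hpq : p ≠ q) (hpr : p ≠ r) (hqr : q ≠ r) (hpK : p ∣ Nat.card K)
    (hqM : q ∣ Nat.card M / Nat.card K) (hrG : r ∣ Nat.card G / Nat.card M) :
    (∃ x : G, orderOf x = p * q) ∨ (∃ x : G, orderOf x = p * r) ∨ (∃ x : G, orderOf x = q * r) := by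
  have := Fact.mk hp
  let P : Sylow p K := default
  have hP1 : (P : Subgroup K) ≠ ⊥ := P.ne_bot_of_dvd_card hpK
  set P₀ : Subgroup G := (P : Subgroup K).map K.subtype with hP₀
  have hP01 : P₀ ≠ ⊥ := by
    rw [Ne, Subgroup.map_eq_bot_iff_of_injective _ K.subtype_injective]
    exact hP1
  have hP0 : IsPGroup p P₀ := P.2.map _
  have hfr : normalizer (P₀ : Set G) ⊔ K = ⊤ := Sylow.normalizer_sup_eq_top P
  set L : Subgroup G := normalizer (P₀ : Set G) with hL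
  have hPL : P₀ ≤ L := le_normalizer
  have hn : (P₀.subgroupOf L).Normal := (normal_subgroupOf_iff_le_normalizer hPL).2 le_rfl
  have hp' : IsPGroup p (P₀.subgroupOf L) := hP0.of_equiv (subgroupOfEquivOfLe hPL).symm
  have hp1' : P₀.subgroupOf L ≠ ⊥ := by
    intro h
    rw [subgroupOf_eq_bot] at h
    exact hP01 (h.eq_bot_of_le hPL)
  -- q divides the order of M ∩ L
  have hsup : (M ⊓ L) ⊔ K = M := by
    apply le_antisymm (sup_le inf_le_left hKM)
    intro x hx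
    have hx' : x ∈ ((L ⊔ K : Subgroup G) : Set G) := by rw [hfr]; trivial
    rw [mul_normal] at hx'
    obtain ⟨l, hl, k, hk, rfl⟩ := Set.mem_mul.1 hx'
    have hlM : l ∈ M := by
      have : l = l * k * k⁻¹ := by group
      rw [this]
      exact M.mul_mem hx (M.inv_mem (hKM hk))
    exact mul_mem (mem_sup_left (mem_inf.2 ⟨hlM, hl⟩)) (mem_sup_right hk)
  have hq1 : q ∣ Nat.card (M.subgroupOf L) := by
    rw [card_div_card_eq_relIndex hKM, ← hsup, relIndex_sup_right] at hqM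
    have h1 := hqM.trans (relIndex_dvd_card K (M ⊓ L))
    rwa [← card_subgroupOf_of_le' (inf_le_right : M ⊓ L ≤ L), inf_subgroupOf_right] at h1
  have hr1 : r ∣ (M.subgroupOf L).index := by
    have h1 : M.relIndex L = M.index := by
      rw [← relIndex_sup_right]
      have : L ⊔ M = ⊤ := by
        rw [eq_top_iff, ← hfr]
        exact sup_le_sup_left hKM L
      rw [this, relIndex_top_right]
    have h2 : Nat.card G / Nat.card M = M.index := by
      rw [← M.index_mul_card]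
      exact Nat.mul_div_cancel _ Nat.card_pos
    rw [h2, ← h1] at hrG
    exact hrG
  rcases adj_of_normal_pgroup hp hq hr hpq hpr hqr (P₀.subgroupOf L) (M.subgroupOf L) hp' hp1'
    hq1 hr1 with ⟨x, hx⟩ | ⟨x, hx⟩ | ⟨x, hx⟩
  · exact Or.inl ⟨x, by rw [Subgroup.orderOf_coe, hx]⟩
  · exact Or.inr (Or.inl ⟨x, by rw [Subgroup.orderOf_coe, hx]⟩)
  · exact Or.inr (Or.inr ⟨x, by rw [Subgroup.orderOf_coe, hx]⟩)

/-- a nontrivial solvable normal subgroup contains a nontrivial normal `s`-subgroup of `G` -/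
theorem exists_normal_pgroup_le {G : Type u} [Group G] [Finite G] (K : Subgroup G) [K.Normal]
    (hK : Group.IsSolvable K) (hK1 : K ≠ ⊥) :
    ∃ (N : Subgroup G) (s : ℕ), N.Normal ∧ N ≤ K ∧ N ≠ ⊥ ∧ s.Prime ∧ IsPGroup s N := by
  obtain ⟨L, hL, hmin⟩ := (wellFounded_lt (α := Subgroup G)).has_min
    {B | B.Normal ∧ B ≠ ⊥ ∧ B ≤ K} ⟨K, inferInstance, hK1, le_rfl⟩
  obtain ⟨hLn, hL1, hLK⟩ := hL
  have hLs : Group.IsSolvable L :=
    Group.isSolvable_of_isSolvable_injective (Subgroup.inclusion_injective hLK)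
  have hnt : Nontrivial L := (nontrivial_iff_ne_bot L).2 hL1
  have hcomm : ⁅L, L⁆ = ⊥ := by
    by_contra hne
    have hlt : ⁅L, L⁆ < L := by
      have h1 := Group.IsSolvable.commutator_lt_top_of_nontrivial L
      have h2 : ⁅L, L⁆ = (commutator L).map L.subtype := (map_subtype_commutator L).symm
      have h3 : L = (⊤ : Subgroup L).map L.subtype := by
        rw [← MonoidHom.range_eq_map, range_subtype]
      rw [h2]
      conv_rhs => rw [h3]
      exact (map_subtype_lt_map_subtype).2 h1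
    exact hmin ⁅L, L⁆ ⟨inferInstance, hne, hlt.le.trans hLK⟩ hlt
  have hc : ∀ a ∈ L, ∀ b ∈ L, Commute a b := by
    intro a ha b hb
    exact (mem_centralizer_iff.1 ((commutator_eq_bot_iff_le_centralizer).1 hcomm ha) b hb).symm
  have hcard : Nat.card L ≠ 1 := by
    intro h
    exact hL1 (Subgroup.card_eq_one.1 h)
  obtain ⟨s, hs, hsd⟩ := Nat.exists_prime_and_dvd hcard
  have := Fact.mk hs
  let N : Subgroup G :=
    { carrier := {x | x ∈ L ∧ x ^ s = 1}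
      one_mem' := ⟨L.one_mem, one_pow s⟩
      mul_mem' := fun {a b} ha hb => ⟨L.mul_mem ha.1 hb.1, by
        rw [(hc a ha.1 b hb.1).mul_pow, ha.2, hb.2, one_mul]⟩
      inv_mem' := fun {a} ha => ⟨L.inv_mem ha.1, by rw [inv_pow, ha.2, inv_one]⟩ }
  refine ⟨N, s, ⟨fun n hn g => ⟨hLn.conj_mem n hn.1 g, by rw [conj_pow, hn.2]; group⟩⟩,
    fun x hx => hLK hx.1, ?_, hs, ?_⟩
  · obtain ⟨x, hx⟩ := exists_prime_orderOf_dvd_card' s hsd
    intro hbot
    have hxN : (x : G) ∈ N := by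
      refine ⟨x.2, ?_⟩
      have := pow_orderOf_eq_one x
      rw [hx] at this
      simpa using congrArg Subtype.val this
    rw [hbot, mem_bot] at hxN
    have : x = 1 := Subtype.ext hxN
    rw [this, orderOf_one] at hx
    exact hs.one_lt.ne hx
  · intro x
    refine ⟨1, Subtype.ext ?_⟩
    rw [pow_one]
    exact x.2.2

/-- inside a solvable normal subgroup there is a normal subgroup of `G` whose order is divisible by
exactly one prime of `π` -/
theorem exists_normal_one_prime {G : Type u} [Group G] [Finite G] (K : Subgroup G) [K.Normal]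
    (hK : Group.IsSolvable K) (π : Finset ℕ) (hex : ∃ s ∈ π, s.Prime ∧ s ∣ Nat.card K) :
    ∃ K₁ : Subgroup G, K₁.Normal ∧ K₁ ≤ K ∧ ∃ s ∈ π, s.Prime ∧ s ∣ Nat.card K₁ ∧
      ∀ u ∈ π, u.Prime → u ∣ Nat.card K₁ → u = s := by
  classical
  let 𝒮 : Set (Subgroup G) := {Y | Y.Normal ∧ Y ≤ K ∧ ∀ u ∈ π, u.Prime → ¬ u ∣ Nat.card Y}
  have hbot : ⊥ ∈ 𝒮 := ⟨inferInstance, bot_le, fun u _ hu hd => by
    rw [card_bot] at hd
    exact hu.one_lt.ne' (Nat.dvd_one.1 hd)⟩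
  obtain ⟨Y, hY⟩ := (Set.toFinite 𝒮).exists_maximal ⟨⊥, hbot⟩
  obtain ⟨hYn, hYK, hYπ⟩ := hY.1
  have hKbn : (K.map (QuotientGroup.mk' Y)).Normal :=
    Normal.map inferInstance _ (QuotientGroup.mk'_surjective Y)
  have hKbs : Group.IsSolvable (K.map (QuotientGroup.mk' Y)) :=
    Group.isSolvable_of_surjective ((QuotientGroup.mk' Y).subgroupMap_surjective K)
  have hKb1 : K.map (QuotientGroup.mk' Y) ≠ ⊥ := by
    intro h
    have h1 : K ≤ Y := by
      rw [Subgroup.map_eq_bot_iff, QuotientGroup.ker_mk'] at h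
      exact h
    have hKY : K = Y := le_antisymm h1 hYK
    obtain ⟨s, hs, hsp, hsd⟩ := hex
    exact hYπ s hs hsp (hKY ▸ hsd)
  obtain ⟨Nb, t, hNn, hNK, hN1, ht, hNt⟩ := exists_normal_pgroup_le _ hKbs hKb1
  have := Fact.mk ht
  have hK₁n : (Nb.comap (QuotientGroup.mk' Y)).Normal := hNn.comap _
  have hcard : Nat.card (Nb.comap (QuotientGroup.mk' Y)) = Nat.card Y * Nat.card Nb :=
    QuotientGroup.card_preimage_mk Y (Nb : Set (G ⧸ Y))
  have hYK₁ : Y ≤ Nb.comap (QuotientGroup.mk' Y) := by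
    intro x hx
    rw [mem_comap]
    have : QuotientGroup.mk' Y x = 1 := (QuotientGroup.eq_one_iff x).mpr hx
    rw [this]
    exact one_mem _
  have hK₁K : Nb.comap (QuotientGroup.mk' Y) ≤ K := by
    calc Nb.comap (QuotientGroup.mk' Y) ≤ (K.map (QuotientGroup.mk' Y)).comap (QuotientGroup.mk' Y) :=
          comap_mono hNK
      _ = K ⊔ Y := by rw [comap_map_eq, QuotientGroup.ker_mk']
      _ = K := sup_eq_left.2 hYK
  obtain ⟨k, hk⟩ := IsPGroup.iff_card.1 hNt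
  have hnot : Nb.comap (QuotientGroup.mk' Y) ∉ 𝒮 := by
    intro h
    have h1 := hY.2 h hYK₁
    apply hN1
    rw [eq_bot_iff]
    intro x hx
    obtain ⟨g, rfl⟩ := QuotientGroup.mk'_surjective Y x
    have h2 : g ∈ Y := h1 hx
    exact mem_bot.2 ((QuotientGroup.eq_one_iff g).2 h2)
  have hdiv : ∀ u ∈ π, u.Prime → u ∣ Nat.card (Nb.comap (QuotientGroup.mk' Y)) → u = t := by
    intro u hu hup hud
    rw [hcard, hk] at hud
    rcases (hup.dvd_mul).1 hud with h | h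
    · exact absurd h (hYπ u hu hup)
    · exact (Nat.prime_dvd_prime_iff_eq hup ht).1 (hup.dvd_of_dvd_pow h)
  have hex' : ∃ u ∈ π, u.Prime ∧ u ∣ Nat.card (Nb.comap (QuotientGroup.mk' Y)) := by
    by_contra hcon
    push Not at hcon
    exact hnot ⟨hK₁n, hK₁K, hcon⟩
  obtain ⟨u, hu, hup, hud⟩ := hex'
  have hut := hdiv u hu hup hud
  exact ⟨_, hK₁n, hK₁K, t, hut ▸ hu, ht, hut ▸ hud, hdiv⟩

end Cfsg.Agent.Lib.Helper20
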